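import Mathlib
import Cfsg.Agent.H65.Disp.Grp
import Cfsg.Agent.H823.GateTwo
import Cfsg.Agent.S0312
import Cfsg.Agent.Schreier.BNSch

/-!
# Automorphisms of order three and (B, N)-pairs of rank two (helper160, task 1197, for helper959)

The displacement theorem of helper65 (`H65.Disp.Grp`) for (B, N)-pairs, `W = N / (B ∩ N)`.

* `bg` : the hypotheses of `H65.Disp.exists_mem_PP`;
* `exists_fixC` : `P.S = {s, t}`, `|P_s : B| = |P_t : B| = 1` modulo `r`, `s t s t` reduced, `x ^ 3 = 1`, `x` fixes the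
  classes of `B`, `P_s`, `P_t`: `x` fixes a conjugate of `P_s` or of `P_t`.
-/

set_option autoImplicit false
set_option linter.unusedSectionVars false

namespace Cfsg.Agent.H160.TwF3.Disp

open Cfsg Subgroup Cfsg.Agent.LieExceptional.BNPairCore Cfsg.Agent.H823.GateTwo Cfsg.Agent.H65.Disp

variable {K : Type*} [Group K]

section Weyl

variable (P : BNPair K)

/-- `B ∩ N` as a subgroup of `N` -/
def TT : Subgroup P.N := P.B.subgroupOf P.N

instance : (TT P).Normal := ⟨fun t ht n => by
  rw [TT, mem_subgroupOf] at ht ⊢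
  exact P.conj_mem n n.2 t ⟨ht, t.2⟩⟩

/-- the Weyl group -/
abbrev WW : Type _ := P.N ⧸ TT P

variable {P}

/-- the class of an element of `N` -/
def cls (n : K) (hn : n ∈ P.N) : WW P := ((⟨n, hn⟩ : P.N) : P.N ⧸ TT P)

theorem cls_eq_iff {n n' : K} (hn : n ∈ P.N) (hn' : n' ∈ P.N) : cls n hn = cls n' hn' ↔ n⁻¹ * n' ∈ P.B := by
  rw [cls, cls, QuotientGroup.eq, TT, mem_subgroupOf]
  rfl

theorem cls_mul {n n' : K} (hn : n ∈ P.N) (hn' : n' ∈ P.N) : cls n hn * cls n' hn' = cls (n * n') (mul_mem hn hn') :=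
  rfl

theorem cls_one : cls (1 : K) (P.N.one_mem) = (1 : WW P) := rfl

theorem exists_cls (w : WW P) : ∃ (n : K) (hn : n ∈ P.N), w = cls n hn := by
  obtain ⟨n, rfl⟩ := QuotientGroup.mk_surjective w
  exact ⟨n, n.2, rfl⟩

/-- the relative position -/
noncomputable def del (P : BNPair K) (g : K) : WW P := cls (bruhat (P := P) g).choose (bruhat (P := P) g).choose_spec.1

theorem del_eq {n g : K} (hn : n ∈ P.N) (hg : g ∈ C P n) : del P g = cls n hn := by
  rw [del, cls_eq_iff]
  exact rel_of_C_eq (bruhat (P := P) g).choose_spec.1 hn (C_eq_of_mem_mem (bruhat (P := P) g).choose_spec.2 hg)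

/-- the length -/
noncomputable def lenW (w : WW P) : ℕ := len P ((Quotient.out w : P.N) : K)

theorem lenW_cls {n : K} (hn : n ∈ P.N) : lenW (cls n hn) = len P n := by
  refine len_congr ?_
  have h1 : cls ((Quotient.out (cls n hn) : P.N) : K) (Quotient.out (cls n hn) : P.N).2 = cls n hn :=
    QuotientGroup.out_eq' (cls n hn)
  exact (cls_eq_iff _ _).1 h1

/-- the elements of the minimal parabolic subgroups -/
theorem mem_C_of_par {s : K} (hs : s ∈ P.S) {p : K} (hp : p ∈ P.parabolic {s}) (hB : p ∉ P.B) : p ∈ C P s := by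
  rcases Cfsg.Agent.Schreier.BNSch.mem_parabolic_singleton P hs hp with h | ⟨b, hb, b', hb', h⟩
  · exact absurd h hB
  · exact mem_C.2 ⟨b, hb, b', hb', h⟩

theorem B_le_par (s : K) : P.B ≤ P.parabolic {s} := le_sup_left

theorem mem_par (s : K) : s ∈ P.parabolic {s} := (le_sup_right : closure {s} ≤ _) (subset_closure rfl)

/-- products -/
theorem mul_C {s n u v : K} (hs : s ∈ P.S) (hn : n ∈ P.N) (h : len P n ≤ len P (s * n)) (hu : u ∈ C P s)
    (hv : v ∈ C P n) : u * v ∈ C P (s * n) := by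
  obtain ⟨b, hb, b', hb', rfl⟩ := mem_C.1 hu
  obtain ⟨c, hc, c', hc', rfl⟩ := mem_C.1 hv
  have h1 := mul_mem_C_of_le hs hn (mul_mem hb' hc) h
  have e : b * s * b' * (c * n * c') = b * (s * (b' * c) * n) * c' := by group
  rw [e]
  exact mul_mem_C_right hc' (mul_mem_C_left hb h1)

theorem bg {F I : Type*} [Field F] {f : I → K} (hf : Set.range f = P.S)
    (hc : ∀ i, ((P.B.relIndex (P.parabolic {f i}) : ℕ) : F) = 1) :
    BG F P.B (fun i => P.parabolic {f i}) (del P)
      (fun i => cls (f i) (P.subset (hf ▸ Set.mem_range_self i))) lenW where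
  card := hc
  sq i := by
    have hs : f i ∈ P.S := hf ▸ Set.mem_range_self i
    rw [cls_mul, ← cls_one, cls_eq_iff, mul_one]
    exact inv_sq_mem hs
  one_iff g := by
    obtain ⟨n, hn, hg⟩ := bruhat (P := P) g
    rw [del_eq hn hg, ← cls_one, cls_eq_iff, mul_one]
    constructor
    · intro h
      exact mem_B_of_mem_C (by simpa using inv_mem h) hg
    · intro h
      have h1 : C P n = C P 1 := C_eq_of_mem_mem hg (mem_C_one.2 h)
      have h2 := rel_of_C_eq hn P.N.one_mem h1
      rwa [mul_one] at h2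
  left b hb g := by
    obtain ⟨n, hn, hg⟩ := bruhat (P := P) g
    rw [del_eq hn hg, del_eq hn (mul_mem_C_left hb hg)]
  right b hb g := by
    obtain ⟨n, hn, hg⟩ := bruhat (P := P) g
    rw [del_eq hn hg, del_eq hn (mul_mem_C_right hb hg)]
  le i := B_le_par _
  proj i g := by
    have hs : f i ∈ P.S := hf ▸ Set.mem_range_self i
    have hsN : f i ∈ P.N := P.subset hs
    obtain ⟨n, hn, hg⟩ := bruhat (P := P) g
    -- the general step
    have key : ∀ g₀ m : K, ∀ hm : m ∈ P.N, g₀ ∈ C P m → len P m < len P (f i * m) →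
        ∀ y ∈ P.parabolic {f i}, y ∉ P.B → del P (y * g₀) = cls (f i) hsN * cls m hm := by
      intro g₀ m hm hg₀ hlt y hy hyB
      rw [cls_mul]
      exact del_eq _ (mul_C hs hm hlt.le (mem_C_of_par hs hy hyB) hg₀)
    by_cases hlt : len P (f i * n) < len P n
    · obtain ⟨b, hb, b', hb', rfl⟩ := mem_C.1 hg
      have hm : f i * n ∈ P.N := mul_mem hsN hn
      have e : (b * f i)⁻¹ * (b * n * b') = (f i * f i)⁻¹ * (f i * n) * b' := by group
      have h1 : (b * f i)⁻¹ * (b * n * b') ∈ C P (f i * n) := by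
        rw [e]
        exact mul_mem_C_right hb' (mul_mem_C_left (inv_sq_mem hs) (self_mem_C _))
      have h2 : len P (f i * n) < len P (f i * (f i * n)) := by
        rw [len_congr (rel_sq_mul hs hn)]
        exact hlt
      have hp : b * f i ∈ P.parabolic {f i} := mul_mem (B_le_par _ hb) (mem_par _)
      refine ⟨b * f i, hp, ?_, fun p hpp hpB => ?_⟩
      · rw [del_eq hm h1, cls_mul, lenW_cls, lenW_cls]
        exact h2
      · rw [del_eq hm h1]
        have e2 : p⁻¹ * (b * n * b') = p⁻¹ * (b * f i) * ((b * f i)⁻¹ * (b * n * b')) := by group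
        rw [e2]
        refine key _ _ hm h1 h2 _ (mul_mem (inv_mem hpp) hp) fun h3 => hpB ?_
        have := inv_mem h3
        rwa [mul_inv_rev, inv_inv] at this
    · have h2 : len P n < len P (f i * n) :=
        lt_of_le_of_ne (not_lt.1 hlt) (len_mul_left_ne hs hn).symm
      refine ⟨1, one_mem _, ?_, fun p hpp hpB => ?_⟩
      · rw [inv_one, one_mul, del_eq hn hg, cls_mul, lenW_cls, lenW_cls]
        exact h2
      · rw [inv_one, one_mul] at hpB ⊢
        rw [del_eq hn hg]
        exact key _ _ hn hg h2 _ (inv_mem hpp) fun h3 => hpB (by simpa using inv_mem h3)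
  len_one := by
    rw [← cls_one, lenW_cls, len_one]
  desc w hw := by
    obtain ⟨n, hn, rfl⟩ := exists_cls w
    obtain ⟨l, hl, hlS, hrel⟩ := exists_reduced (P := P) hn
    cases l with
    | nil =>
      exfalso
      apply hw
      rw [← cls_one, cls_eq_iff, mul_one]
      have : n ∈ P.B := by simpa using hrel
      exact inv_mem this
    | cons a l =>
      have haS : a ∈ P.S := hlS a List.mem_cons_self
      obtain ⟨i, hi⟩ : a ∈ Set.range f := hf ▸ haS
      refine ⟨i, ?_⟩
      rw [cls_mul, lenW_cls, lenW_cls]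
      have hl'S : ∀ s ∈ l, s ∈ P.S := fun s hs => hlS s (List.mem_cons_of_mem _ hs)
      rw [List.prod_cons] at hrel
      have h1 : (a * (a * l.prod))⁻¹ * (a * n) ∈ P.B := rel_mul_left a hrel
      have h2 := rel_trans (rel_symm (rel_sq_mul haS (prod_mem_N hl'S))) h1
      have h3 := len_congr h2
      have h4 := len_prod_le hl'S
      rw [hi, ← h3]
      rw [List.length_cons] at hl
      omega

end Weyl

/-! ### Rank two -/

section Two

variable [Finite K] {P : BNPair K} {r : ℕ} [hr : Fact r.Prime] {s t : K} (hS : P.S = {s, t})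

include hS in
/-- **An automorphism of order three fixes a vertex.** -/
theorem exists_fixC (hcs : ((P.B.relIndex (P.parabolic {s}) : ℕ) : ZMod r) = 1)
    (hct : ((P.B.relIndex (P.parabolic {t}) : ℕ) : ZMod r) = 1) (hlen : len P (alt s t 4) = 4)
    {x : MulAut K} (hx : x ^ 3 = 1) {m : K} (hB : ∀ b, m * x b * m⁻¹ ∈ P.B ↔ b ∈ P.B)
    (hPs : ∀ b, m * x b * m⁻¹ ∈ P.parabolic {s} ↔ b ∈ P.parabolic {s})
    (hPt : ∀ b, m * x b * m⁻¹ ∈ P.parabolic {t} ↔ b ∈ P.parabolic {t}) :
    ∃ g, FixC x g (P.parabolic {s}) ∨ FixC x g (P.parabolic {t}) := by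
  have hsS : s ∈ P.S := by rw [hS]; exact Set.mem_insert _ _
  have htS : t ∈ P.S := by rw [hS]; exact Set.mem_insert_of_mem _ rfl
  set β : MulAut K := MulAut.conj m * x with hβ
  have hβap : ∀ y, β y = m * x y * m⁻¹ := fun y => rfl
  let f : Bool → K := fun b => if b then s else t
  have hf : Set.range f = P.S := by
    rw [hS]
    ext g
    constructor
    · rintro ⟨b, rfl⟩
      cases b
      · exact Or.inr rfl
      · exact Or.inl rfl
    · rintro (rfl | h)
      · exact ⟨true, rfl⟩
      · rw [Set.mem_singleton_iff] at h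
        subst h
        exact ⟨false, rfl⟩
  have D : BG (ZMod r) P.B (fun i => P.parabolic {f i}) (del P)
      (fun i => cls (f i) (P.subset (hf ▸ Set.mem_range_self i))) lenW := bg hf (by
    intro i
    cases i
    · exact hct
    · exact hcs)
  obtain ⟨g, hg⟩ := exists_mem_PP D m⁻¹ (β := β) (fun g => hB g) (π := 1) (fun i g => by
    cases i
    · exact hPt g
    · exact hPs g) [true, false] (o := 1) (fun i => by
    show i ∈ [true, false] ++ [].map _
    cases i <;> simp)
  obtain ⟨p, hp, q, ⟨p', hp', b, hb, rfl⟩, hd⟩ := hg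
  have hp : p ∈ P.parabolic {s} := hp
  have hp' : p' ∈ P.parabolic {t} := hp'
  have hdel : Cfsg.Agent.H823.GateTwo.del x m g = p * (p' * b) := by
    rw [← hd, hβap]
    show g⁻¹ * x g * m⁻¹ = _
    group
  by_cases hpB : p ∈ P.B
  · refine ⟨g, Or.inr (fixC_of_del (fun y hy => (hPt y).2 hy) ?_)⟩
    rw [hdel]
    exact mul_mem (B_le_par _ hpB) (mul_mem hp' (B_le_par _ hb))
  by_cases hpB' : p' ∈ P.B
  · refine ⟨g, Or.inl (fixC_of_del (fun y hy => (hPs y).2 hy) ?_)⟩
    rw [hdel]
    exact mul_mem hp (B_le_par _ (mul_mem hpB' hb))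
  exfalso
  -- lengths
  have l3 := len_tail hsS htS hlen
  have l2 := len_tail htS hsS l3
  have l1 := len_tail hsS htS l2
  have hN := fun k => alt_mem_N (P := P) hsS htS k
  have hN' := fun k => alt_mem_N (P := P) htS hsS k
  set d := p * (p' * b) with hdd
  have c1 : ∀ u v : K, u ∈ C P s → v ∈ C P t → u * v ∈ C P (alt s t 2) := by
    intro u v hu hv
    have h1 : v ∈ C P (alt t s 1) := by
      rw [alt_succ, alt_zero, mul_one]
      exact hv
    exact mul_C hsS (hN' 1) (show len P (alt t s 1) ≤ len P (alt s t 2) by omega) hu h1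
  have c2 : ∀ u v w : K, u ∈ C P s → v ∈ C P t → w ∈ C P (alt s t 2) → u * v * w ∈ C P (alt s t 4) := by
    intro u v w hu hv hw
    rw [mul_assoc]
    have h1 : v * w ∈ C P (alt t s 3) := mul_C htS (hN 2) (show len P (alt s t 2) ≤ len P (alt t s 3) by omega) hv hw
    exact mul_C hsS (hN' 3) (show len P (alt t s 3) ≤ len P (alt s t 4) by omega) hu h1
  have hps : p ∈ C P s := mem_C_of_par hsS hp hpB
  have hpt : p' * b ∈ C P t := mul_mem_C_right hb (mem_C_of_par htS hp' hpB')
  have hnB : ∀ {a u : K}, u ∈ C P a → u ∈ P.B → a ∈ P.B := by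
    intro a u hu huB
    have h1 := self_mem_C (P := P) a
    rw [← C_eq_of_mem hu] at h1
    exact mem_B_of_mem_C huB h1
  have hβs : ∀ {u : K}, u ∈ C P s → β u ∈ C P s := by
    intro u hu
    refine mem_C_of_par hsS ((hPs u).2 ?_) fun h => ?_
    · exact mem_of_mem_C' (B_le_par s) hu (mem_par s)
    · exact not_mem_B hsS (hnB hu ((hB u).1 h))
  have hβt : ∀ {u : K}, u ∈ C P t → β u ∈ C P t := by
    intro u hu
    refine mem_C_of_par htS ((hPt u).2 ?_) fun h => ?_
    · exact mem_of_mem_C' (B_le_par t) hu (mem_par t)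
    · exact not_mem_B htS (hnB hu ((hB u).1 h))
  -- the cube
  have hx' : (MulAut.conj g)⁻¹ * x * MulAut.conj g = MulAut.conj d * β := by
    have h1 : d = g⁻¹ * x g * m⁻¹ := hdel.symm
    ext y
    simp only [MulAut.mul_apply, MulAut.conj_apply, MulAut.conj_inv_apply, hβap, h1, map_mul, map_inv]
    group
  have hx3 : (MulAut.conj d * β) ^ 3 = 1 := by
    rw [← hx']
    have e : ∀ u v : MulAut K, (u⁻¹ * v * u) ^ 3 = u⁻¹ * v ^ 3 * u := by
      intro u v
      simp only [pow_succ, pow_zero, one_mul]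
      group
    rw [e, hx, mul_one, inv_mul_cancel]
  have hq : d * β d * β (β d) ∈ P.B := by
    have h1 : MulAut.conj (d * β d * β (β d)) * (β * β * β) = 1 := by
      rw [← hx3]
      ext y
      simp only [pow_succ, pow_zero, one_mul, MulAut.mul_apply, MulAut.conj_apply, map_mul, map_inv, mul_inv_rev,
        mul_assoc]
    have hn : normalizer (P.B : Set K) = P.B := by
      have := Cfsg.Agent.S0312.result P (J := ∅) (Set.empty_subset _)
      rwa [Cfsg.Agent.Schreier.BNSch.parabolic_empty] at this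
    rw [← hn, mem_normalizer_iff]
    intro y
    obtain ⟨y', rfl⟩ : ∃ y', (β * β * β) y' = y := ⟨(β * β * β)⁻¹ y, MulAut.apply_inv_self _ _ _⟩
    have h2 := DFunLike.congr_fun h1 y'
    rw [MulAut.mul_apply, MulAut.conj_apply] at h2
    have h3 : d * β d * β (β d) * (β * β * β) y' * (d * β d * β (β d))⁻¹ = y' := h2
    rw [h3]
    show β (β (β y')) ∈ P.B ↔ _
    rw [hβap (β (β y')), hB, hβap (β y'), hB, hβap y', hB]
  have h4 : d * β d ∈ C P (alt s t 4) := by
    have h1 : β d ∈ C P (alt s t 2) := by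
      rw [hdd, map_mul]
      exact c1 _ _ (hβs hps) (hβt hpt)
    exact c2 _ _ _ hps hpt h1
  have h5 : β (β d) ∈ C P (alt s t 2) := by
    rw [hdd, map_mul, map_mul]
    exact c1 _ _ (hβs (hβs hps)) (hβt (hβt hpt))
  have h6 : d * β d ∈ C P (alt s t 2)⁻¹ := by
    have e : d * β d = d * β d * β (β d) * (β (β d))⁻¹ := by group
    rw [e]
    exact mul_mem_C_left hq (inv_mem_C h5)
  have h7 : C P (alt s t 2)⁻¹ = C P (alt t s 2) := by
    apply C_eq_of_rel
    have e : (alt s t 2)⁻¹⁻¹ * alt t s 2 = s * (t * t) * s⁻¹ * (s * s) := by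
      simp only [alt_succ, alt_zero]
      group
    rw [e]
    exact mul_mem (P.conj_mem s (P.subset hsS) (t * t) ⟨P.sq_mem t htS, mul_mem (P.subset htS) (P.subset htS)⟩)
      (P.sq_mem s hsS)
  rw [h7] at h6
  have h8 := len_congr (rel_of_C_eq (hN 4) (hN' 2) (C_eq_of_mem_mem h4 h6))
  have h9 := len_alt_le (P := P) htS hsS 2
  omega

end Two

end Cfsg.Agent.H160.TwF3.Disp
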