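import Mathlib
import Cfsg.Agent.H823.NfTwF
import Cfsg.Agent.H959.Rad3.Gal
import Cfsg.Agent.H959.Rad3.Iface
import Cfsg.Agent.H160.TwF3.Disp

/-!
# Automorphisms of order three of `²F₄(q)`, `q ≥ 8` (helper160, task 1197, for helper959)

After `H823.NfTwF` (helper823), with `H959.Rad3.Gal.nonell3` (helper959) and the displacement theorem of helper65.

* `fixC` : an automorphism of order three fixes a conjugate of a maximal parabolic subgroup;
* `fixAt_2f4` : `FixAt 2 K`, `irow_2f4` : `IRow K`, `K ≅ ²F₄(q)`;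
* `fixR_2f4` : every automorphism of order three normalises a nontrivial 2-subgroup;
* `nf3_2f4` : `NF 2 3 K`.
-/

set_option autoImplicit false
set_option linter.unusedSectionVars false

namespace Cfsg.Agent.H160.TwF3.Row

open Subgroup Cfsg
open Cfsg.Agent.SplitTwo Cfsg.Agent.SplitTwo.ZS
open Cfsg.Agent.H823.GateTwo Cfsg.Agent.H823.NfTwF
open Cfsg.Agent.KFacts.TwF4 Cfsg.Agent.TitsThree.RankTwoZ

section Main

open Cfsg.Agent.H459.Rad Cfsg.Agent.H459.Gallery Cfsg.Agent.H459.NonEll Cfsg.Agent.H459.Iface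
open Cfsg.Agent.Schreier.BNSch Cfsg.Agent.KFacts.TwF4.Perf Cfsg.Agent.KFacts.TwF4.SylU

variable {F : Type*} [Field F] [Finite F] {σ : F →+* F} {G : Type*} [Group G] [Finite G] (S : Full σ G)
  {P : BNPair G} (hPB : P.B = normalizer (J S.XZ 1 8 : Set G)) (hPS : P.S = {S.n1, S.n2})

/-- two generators: no automorphism of odd order of the diagram -/
theorem rig (hirr : P.Irreducible) {s t : G} (hS : P.S = {s, t}) (hst : s ≠ t) : Rig P 3 := by
  classical
  intro z hz hzp
  have hsS : s ∈ P.S := by rw [hS]; exact Set.mem_insert _ _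
  have htS : t ∈ P.S := by rw [hS]; exact Set.mem_insert_of_mem _ rfl
  let f : Bool → G := fun b => if b then s else t
  have hrange : Set.range f = P.S := by
    rw [hS]
    ext g
    constructor
    · rintro ⟨b, rfl⟩
      cases b
      · exact Or.inr rfl
      · exact Or.inl rfl
    · rintro (rfl | h)
      · exact ⟨true, rfl⟩
      · rw [Set.mem_singleton_iff] at h
        subst h
        exact ⟨false, rfl⟩
  have hinj : Function.Injective f := by
    intro a b hab
    cases a <;> cases b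
    · rfl
    · exact absurd hab.symm hst
    · exact absurd hab hst
    · rfl
  have hcomm : ∀ a b : G, a ∈ P.S → b ∈ P.S → a ≠ b → a * b * a⁻¹ * b⁻¹ ∉ P.B := by
    intro a b ha hb hab
    obtain ⟨a', ha', b', ⟨hb', hb''⟩, h⟩ := hirr {a} (Set.singleton_subset_iff.2 ha) (Set.singleton_nonempty a)
      ⟨b, hb, fun h => hab (Set.mem_singleton_iff.1 h).symm⟩
    rw [Set.mem_singleton_iff] at ha'
    subst ha'
    have hbb : b' = b := by
      rw [hS] at ha hb hb'
      rw [Set.mem_singleton_iff] at hb''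
      rcases ha with rfl | ha <;> rcases hb with rfl | hb <;> rcases hb' with rfl | hb'
      · rfl
      · exact absurd rfl hab
      · exact absurd rfl hb''
      · rw [Set.mem_singleton_iff] at hb hb'
        rw [hb, hb']
      · rfl
      · rw [Set.mem_singleton_iff] at ha hb'
        exact absurd (hb'.trans ha.symm) hb''
      · rw [Set.mem_singleton_iff] at ha hb
        exact absurd (ha.trans hb.symm) hab
      · rw [Set.mem_singleton_iff] at hb hb'
        rw [hb, hb']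
    rw [← hbb]
    exact h
  have hfS : ∀ i, f i ∈ P.S := fun i => by rw [← hrange]; exact ⟨i, rfl⟩
  obtain ⟨τ, hτ1, -⟩ := Cfsg.Agent.Schreier.BNGraph.exists_perm P f hrange hinj (fun i j => i ≠ j)
    (fun i hi => hi rfl) (fun i j hij => ⟨fun _ => hcomm _ _ (hfS i) (hfS j) fun h => hij (hinj h), fun _ => hij⟩)
    z hz.map_eq
  have hpow : ∀ (k : ℕ) (i : Bool), (P.parabolic {f i}).map (z ^ k).toMonoidHom = P.parabolic {f ((τ ^ k) i)} := by
    intro k
    induction k with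
    | zero =>
      intro i
      rw [pow_zero, pow_zero]
      exact Subgroup.map_id _
    | succ k ih =>
      intro i
      have e2 : (z ^ (k + 1)).toMonoidHom = (z ^ k).toMonoidHom.comp z.toMonoidHom := by
        rw [pow_succ]; rfl
      rw [e2, ← Subgroup.map_map, hτ1, ih, pow_succ]
      rfl
  have hτk : τ ^ 3 = 1 := by
    ext i
    have h6 := hpow 3 i
    obtain ⟨b, hb, hzb⟩ := hzp
    rw [hzb] at h6
    have h7 : P.parabolic {f i} = P.parabolic {f ((τ ^ 3) i)} := by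
      rw [← h6]
      exact (Subgroup.mem_normalizer_iff_map_conj_eq.1 (le_normalizer (B_le_parabolic P _ hb))).symm
    have hsS : ∀ i, ({f i} : Set G) ⊆ P.S := fun i => Set.singleton_subset_iff.mpr (hfS i)
    have h8 := Cfsg.Agent.S0314.result P (hsS _) (hsS _) h7
    exact (hinj (Set.singleton_eq_singleton_iff.mp h8)).symm
  have hτ : ∀ i, τ i = i := by
    intro i
    exact H959.Rad3.Graph.fix_of_card_le_two hτk Finset.univ (fun _ _ => Finset.mem_univ _)
      (by rw [Finset.card_univ, Fintype.card_bool]) (Finset.mem_univ i)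
  intro s' hs'S
  rw [← hrange] at hs'S
  obtain ⟨i, rfl⟩ := hs'S
  have h9 := hτ1 i
  rw [hτ i] at h9
  exact iv_of_map_eq h9

/-- a normal `p`-subgroup of an invariant subgroup -/
theorem fixR_of_normal {y : MulAut G} (hy : y ^ 3 = 1) {L V : Subgroup G} (hL : Iv y L)
    (hn : ∀ l ∈ L, ∀ v ∈ V, l * v * l⁻¹ ∈ V) (hVL : V ≤ L) (h2 : IsPGroup 2 V) (hV : V ≠ ⊥) : FixR 2 y := by
  have key : ∀ W : Subgroup G, W ≤ L → (∀ l ∈ L, ∀ v ∈ W, l * v * l⁻¹ ∈ W) → W.map y.toMonoidHom ≤ L ∧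
      ∀ l ∈ L, ∀ v ∈ W.map y.toMonoidHom, l * v * l⁻¹ ∈ W.map y.toMonoidHom := by
    intro W hWL hW
    constructor
    · rintro _ ⟨w, hw, rfl⟩
      exact hL w (hWL hw)
    · rintro l hl _ ⟨w, hw, rfl⟩
      rw [← hL.map_eq] at hl
      obtain ⟨l', hl', rfl⟩ := hl
      refine ⟨l' * w * l'⁻¹, hW l' hl' w hw, ?_⟩
      show y (l' * w * l'⁻¹) = y l' * y w * (y l')⁻¹
      rw [map_mul, map_mul, map_inv]
  set V1 := V.map y.toMonoidHom with hV1
  set V2 := V1.map y.toMonoidHom with hV2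
  obtain ⟨a1, b1⟩ := key V hVL hn
  obtain ⟨a2, b2⟩ := key V1 a1 b1
  have hV3 : V2.map y.toMonoidHom = V := by
    rw [hV2, hV1, Subgroup.map_map, Subgroup.map_map]
    have e : ((y.toMonoidHom.comp y.toMonoidHom).comp y.toMonoidHom) = MonoidHom.id G := by
      ext g
      have := DFunLike.congr_fun hy g
      rw [pow_succ, pow_two] at this
      exact this
    rw [e, Subgroup.map_id]
  have hsup : ∀ A B : Subgroup G, IsPGroup 2 A → IsPGroup 2 B → A ≤ L → (∀ l ∈ L, ∀ v ∈ B, l * v * l⁻¹ ∈ B) →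
      IsPGroup 2 (A ⊔ B : Subgroup G) := by
    intro A B hA hB hAL hBn
    refine IsPGroup.to_sup_of_normal_right' hA hB fun a ha => ?_
    rw [mem_normalizer_iff]
    intro v
    refine ⟨fun hv => hBn a (hAL ha) v hv, fun hv => ?_⟩
    have := hBn a⁻¹ (inv_mem (hAL ha)) _ hv
    have e : a⁻¹ * (a * v * a⁻¹) * a⁻¹⁻¹ = v := by group
    rwa [e] at this
  refine ⟨(V ⊔ V1) ⊔ V2, ?_, ?_, ?_⟩
  · intro h
    apply hV
    rw [eq_bot_iff, ← h]
    exact le_sup_left.trans le_sup_left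
  · exact hsup _ _ (hsup _ _ h2 (h2.map _) hVL b1) ((h2.map _).map _) (sup_le hVL a1) b2
  · have h1 : ((V ⊔ V1) ⊔ V2) ≤ ((V ⊔ V1) ⊔ V2).comap y.toMonoidHom := by
      rw [← Subgroup.map_le_iff_le_comap, Subgroup.map_sup, Subgroup.map_sup, hV3, ← hV1, ← hV2]
      exact sup_le (sup_le (le_sup_right.trans le_sup_left) le_sup_right) (le_sup_left.trans le_sup_left)
    exact h1

theorem fixR_cx {x : MulAut G} {g : G} (h : FixR 2 (cx x g)) : FixR 2 x := by
  obtain ⟨R, h1, h2, h3⟩ := h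
  refine ⟨R.map (MulAut.conj g).toMonoidHom, ?_, h2.map _, ?_⟩
  · intro h0
    rw [Subgroup.map_eq_bot_iff_of_injective _ (MulAut.conj g).injective] at h0
    exact h1 h0
  · rintro _ ⟨v, hv, rfl⟩
    refine ⟨cx x g v, h3 v hv, ?_⟩
    rw [cx_apply]
    show g * (g⁻¹ * x (g * v * g⁻¹) * g) * g⁻¹ = x (g * v * g⁻¹)
    group

include hPB in
/-- conjugation by the elements of `B` -/
theorem B_conj (hF : ∃ c : Fˣ, c ≠ 1) (hR : S.R.p = 2) {a b : ℤ} (hab : b < a + 7) (h1 : a ≤ 2) (h2 : 7 ≤ b) :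
    ∀ g ∈ P.B, ∀ v ∈ J S.XZ a b, g * v * g⁻¹ ∈ J S.XZ a b := by
  intro g hg v hv
  have Z := S.zsys8
  rw [hPB] at hg
  obtain ⟨u, hu, t, ht, rfl⟩ := norm_U S hF hR fun x => mem_normalizer_iff.1 hg x
  have h3 := S.T_conj_J ht hv
  have h4 := Z.conj_J (a := a) (b := b) (c := 1) (d := 8) (by omega) (by omega) (by omega) hu h3
  have e : u * t * v * (u * t)⁻¹ = u * (t * v * t⁻¹) * u⁻¹ := by group
  rw [e]
  exact h4

/-- a subgroup normalised by `B` and `s` is normalised by `P_s` -/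
theorem par_conj {V : Subgroup G} {s : G} (hB : ∀ g ∈ P.B, ∀ v ∈ V, g * v * g⁻¹ ∈ V)
    (hs : ∀ v ∈ V, s * v * s⁻¹ ∈ V) : ∀ g ∈ P.parabolic {s}, ∀ v ∈ V, g * v * g⁻¹ ∈ V := by
  have h1 : P.parabolic {s} ≤ normalizer (V : Set G) := by
    refine sup_le ?_ ?_
    · intro g hg
      rw [mem_normalizer_iff]
      intro v
      refine ⟨fun hv => hB g hg v hv, fun hv => ?_⟩
      have := hB g⁻¹ (inv_mem hg) _ hv
      have e : g⁻¹ * (g * v * g⁻¹) * g⁻¹⁻¹ = v := by group
      rwa [e] at this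
    · rw [closure_le, Set.singleton_subset_iff, SetLike.mem_coe, mem_normalizer_iff_map_conj_eq]
      refine Subgroup.eq_of_le_of_card_ge (by rintro _ ⟨v, hv, rfl⟩; exact hs v hv) (le_of_eq ?_)
      exact (Subgroup.card_map_of_injective (MulAut.conj s).injective).symm
  intro g hg v hv
  exact (mem_normalizer_iff.1 (h1 hg) v).1 hv

open Cfsg.Agent.LieExceptional.BNPairCore in
include hPB hPS in
/-- **An automorphism of order three fixes a conjugate of a maximal parabolic subgroup.** -/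
theorem fixC (hF : ∃ c : Fˣ, c ≠ 1) (hR : S.R.p = 2) (hirr : P.Irreducible) (h12 : S.n1 ≠ S.n2) {x : MulAut G}
    (hxp : x ^ 3 = 1) : ∃ g, FixC x g (P.parabolic {S.n1}) ∨ FixC x g (P.parabolic {S.n2}) := by
  classical
  have hf2 : Fact (Nat.Prime 2) := ⟨Nat.prime_two⟩
  have h1S : S.n1 ∈ P.S := by rw [hPS]; exact Set.mem_insert _ _
  have h2S : S.n2 ∈ P.S := by rw [hPS]; exact Set.mem_insert_of_mem _ rfl
  obtain ⟨U, hU⟩ := exists_sylow S hF hR
  have hN : normalizer ((U : Subgroup G) : Set G) = P.B := by rw [hU, hPB]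
  have hrig : Rig P 3 := rig hirr hPS h12
  have hxt : Iv x (⊤ : Subgroup G) := fun a _ => mem_top _
  obtain ⟨m, -, hmB⟩ := exists_conj_fix P U hN le_top hxt
  set z := MulAut.conj m * x with hz
  have hzp : ∃ b ∈ P.B, z ^ 3 = MulAut.conj b := by
    obtain ⟨k, -, hk'⟩ := conj_mul_pow m x (mem_top m) hxt 3
    rw [hxp, mul_one] at hk'
    refine ⟨k, ?_, hk'⟩
    have h1 : ∀ n, Iv (z ^ n) P.B := by
      intro n
      induction n with
      | zero => intro a ha; exact ha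
      | succ n ih =>
        intro a ha
        rw [pow_succ, MulAut.mul_apply]
        exact ih _ (hmB a ha)
    have h2 : Iv (MulAut.conj k) P.B := by rw [← hk']; exact h1 3
    have h3 : k ∈ normalizer (P.B : Set G) := by
      rw [Subgroup.mem_normalizer_iff_map_conj_eq]
      exact h2.map_eq
    have h4 : normalizer (P.B : Set G) = P.B := by
      have := Cfsg.Agent.S0312.result P (J := ∅) (Set.empty_subset _)
      rwa [parabolic_empty] at this
    rwa [h4] at h3
  have hzs := hrig z hmB hzp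
  have hiff : ∀ A : Subgroup G, Iv z A → ∀ b, m * x b * m⁻¹ ∈ A ↔ b ∈ A := by
    intro A hA b
    refine ⟨fun hb => ?_, fun hb => hA b hb⟩
    rw [← hA.map_eq] at hb
    obtain ⟨a, ha, h1⟩ := hb
    have h2 : a = b := z.injective h1
    rwa [← h2]
  have hUB : (U : Subgroup G) ≤ P.B := by rw [← hN]; exact le_normalizer
  have hodd : ∀ s : G, ((P.B.relIndex (P.parabolic {s}) : ℕ) : ZMod 2) = 1 := by
    intro s
    have h1 : P.B.relIndex (P.parabolic {s}) ∣ (U : Subgroup G).index :=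
      (Subgroup.relIndex_dvd_index_of_le (B_le_parabolic P _)).trans (Subgroup.index_dvd_of_le hUB)
    have h2 : ¬ 2 ∣ P.B.relIndex (P.parabolic {s}) := fun h => U.not_dvd_index (h.trans h1)
    have h3 : P.B.relIndex (P.parabolic {s}) % 2 = 1 := by omega
    rw [← Nat.mod_add_div (P.B.relIndex (P.parabolic {s})) 2, h3]
    push_cast
    have : (2 : ZMod 2) = 0 := rfl
    rw [this, zero_mul, add_zero]
  exact Cfsg.Agent.H160.TwF3.Disp.exists_fixC hPS (hodd _) (hodd _) (len_alt S hPB hPS 4 (by norm_num)).1 hxp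
    (hiff _ hmB) (hiff _ (hzs _ h1S)) (hiff _ (hzs _ h2S))

include hPB hPS in
/-- **An automorphism of order three normalises a 2-subgroup.** -/
theorem fixR (hF : ∃ c : Fˣ, c ≠ 1) (hR : S.R.p = 2) (hirr : P.Irreducible) (h12 : S.n1 ≠ S.n2) {x : MulAut G}
    (hxp : x ^ 3 = 1) : FixR 2 x := by
  have Z := S.zsys8
  obtain ⟨g, hg⟩ := fixC S hPB hPS hF hR hirr h12 hxp
  refine fixR_cx (g := g) ?_
  have hy : (cx x g) ^ 3 = 1 := by
    have e : cx x g = (MulAut.conj g)⁻¹ * x * ((MulAut.conj g)⁻¹)⁻¹ := by rw [inv_inv]; rfl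
    rw [e, conj_pow, hxp, mul_one, mul_inv_cancel]
  have hne : ∀ a b : ℤ, a ≤ b → J S.XZ a b ≠ ⊥ := by
    intro a b hab h
    obtain ⟨y, hy, hy1⟩ := Z.exists_ne a
    have h1 : y ∈ J S.XZ a b := mem_J hy le_rfl hab
    rw [h, mem_bot] at h1
    exact hy1 h1
  have hUB : J S.XZ 1 8 ≤ P.B := U_le_B S hPB
  rcases hg with hg | hg
  · refine fixR_of_normal hy (L := P.parabolic {S.n1}) (V := J S.XZ 2 8) (fun a ha => ?_) ?_ ?_ (two_J S hR (by norm_num))
      (hne _ _ (by norm_num))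
    · rw [cx_apply]
      exact hg a ha
    · exact par_conj (B_conj S hPB hF hR (by norm_num) (by norm_num) (by norm_num))
        fun v hv => S.n1_refl.mem_J hv (by norm_num) (by norm_num)
    · exact (J_mono (by norm_num) (by norm_num)).trans (hUB.trans (B_le_parabolic P _))
  · refine fixR_of_normal hy (L := P.parabolic {S.n2}) (V := J S.XZ 1 7) (fun a ha => ?_) ?_ ?_ (two_J S hR (by norm_num))
      (hne _ _ (by norm_num))
    · rw [cx_apply]
      exact hg a ha
    · exact par_conj (B_conj S hPB hF hR (by norm_num) (by norm_num) (by norm_num))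
        fun v hv => S.n2_refl.mem_J hv (by norm_num) (by norm_num)
    · exact (J_mono (by norm_num) (by norm_num)).trans (hUB.trans (B_le_parabolic P _))

open Cfsg.Agent.LieExceptional.BNPairCore in
include hPB hPS in
/-- **A radical automorphism of order three is trivial.** -/
theorem eq_one [IsSimpleGroup G] (hF : ∃ c : Fˣ, c ≠ 1) (hR : S.R.p = 2) (hirr : P.Irreducible) (h12 : S.n1 ≠ S.n2)
    {x : MulAut G} (hRC : RC x) (hxp : x ^ 3 = 1) : x = 1 := by
  classical
  have hf2 : Fact (Nat.Prime 2) := ⟨Nat.prime_two⟩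
  have h1S : S.n1 ∈ P.S := by rw [hPS]; exact Set.mem_insert _ _
  have h2S : S.n2 ∈ P.S := by rw [hPS]; exact Set.mem_insert_of_mem _ rfl
  obtain ⟨U, hU⟩ := exists_sylow S hF hR
  have hN : normalizer ((U : Subgroup G) : Set G) = P.B := by rw [hU, hPB]
  have hdec : ∀ g ∈ P.B, ∃ b ∈ J S.XZ 1 8, ∃ t ∈ S.T, g = b * t := by
    intro g hg
    rw [hPB] at hg
    exact norm_U S hF hR fun x => mem_normalizer_iff.1 hg x
  have hBs : Group.IsSolvable P.B := by
    refine isSolvable_le ?_ (BT_solvable S hR)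
    intro g hg
    obtain ⟨b, hb, t, ht, rfl⟩ := hdec g hg
    exact mul_mem (mem_sup_left hb) (mem_sup_right ht)
  have hcore := Cfsg.Agent.Tits.OfBN.normalCore_eq_bot P ⟨_, h1S⟩
  have hf3 : Fact (Nat.Prime 3) := ⟨Nat.prime_three⟩
  have hrig : Rig P 3 := rig hirr hPS h12
  have hstar : Star P 3 := star S hPB hPS hF 3
  have hncard : P.S.ncard = 2 := by rw [hPS, Set.ncard_pair h12]
  have hirr' : Irr P := by
    intro L hL hLn hLne
    obtain ⟨s, hs, t, ⟨htS, htL⟩, h⟩ := hirr L hL hLn (by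
      by_contra hcon
      rw [Set.not_nonempty_iff_eq_empty, Set.sdiff_eq_empty] at hcon
      exact hLne (Set.Subset.antisymm hL hcon))
    exact ⟨s, hs, t, htS, htL, h⟩
  have hend : ∀ (L : Subgroup G) (g : G), P.B ≤ L → L ≠ ⊤ → FixC x g L → x = 1 := by
    intro L g hBL hLt hfix
    refine Cfsg.Agent.H959.Rad3.Gal.nonell3 P U hN hcore hRC hxp hBs hirr' hncard.ge hrig hstar
      (fun _ s hs => not_solvable S hPB hPS hF hs) hBL hLt
      (g₀ := g) fun a ha => ?_
    rw [cx_apply]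
    exact hfix a ha
  have hpar : ∀ s ∈ P.S, P.parabolic {s} ≠ ⊤ := by
    intro s hs
    refine parabolic_ne_top P (Set.singleton_subset_iff.2 hs) fun h => ?_
    rw [← h, Set.ncard_singleton] at hncard
    omega
  obtain ⟨g, h1 | h1⟩ := fixC S hPB hPS hF hR hirr h12 hxp
  · exact hend _ g (B_le_parabolic P _) (hpar _ h1S) h1
  · exact hend _ g (B_le_parabolic P _) (hpar _ h2S) h1

end Main

/-! ### The groups `²F₄(q)` -/

section Final

open Cfsg.Lie
open Cfsg.Agent.KFacts.TwF4.Inst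
open Cfsg.Agent.ChevalleyStructure.TwF4.TwistedFix (Rln)
open Cfsg.Agent.H459.Rad Cfsg.Agent.H459.Iface Cfsg.Agent.H459.NonFix

variable {F : Type} [Field F] [Fintype F] {m : ℕ}

theorem exists_unit (hm : 1 ≤ m) (hK : Fintype.card F = 2 ^ (2 * m + 1)) : ∃ c : Fˣ, c ≠ 1 := by
  have h1 : 1 < Nat.card Fˣ := by
    rw [Nat.card_units, Nat.card_eq_fintype_card, hK]
    have : 2 ^ 3 ≤ 2 ^ (2 * m + 1) := Nat.pow_le_pow_right (by norm_num) (by omega)
    omega
  have h2 : Nontrivial Fˣ := Finite.one_lt_card_iff_nontrivial.1 h1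
  exact exists_ne 1

/-- automorphisms of order three of `²F₄(q)` -/
theorem tw (hm : 1 ≤ m) (hK : Fintype.card F = 2 ^ (2 * m + 1)) [IsSimpleGroup ↥(twistedF4 F (2 ^ m))]
    {x : MulAut ↥(twistedF4 F (2 ^ m))} (hx3 : x ^ 3 = 1) : FixR 2 x ∧ (RC x → x = 1) := by
  have hch : CharP F 2 := Cfsg.Agent.ChevalleyStructure.F4Fixed.charP_two hK
  have hfin : Finite ↥(twistedF4 F (2 ^ m)) := inferInstance
  obtain ⟨φ, hφ⟩ := Cfsg.Agent.ChevalleyStructure.TwF4.TwistedFix.exists_rln hK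
  have hF := exists_unit hm hK
  obtain ⟨P, hB, hN, hirr, hS⟩ := Cfsg.Agent.ChevalleyStructure.TwF4.BNIrred.exists_bnPair_irreducible hφ
  set S := full hK hφ with hSdef
  have hR : S.R.p = 2 := rfl
  have hU : Cfsg.Agent.Schreier.TwFFour.U0 F (2 ^ m) = J S.XZ 1 8 := by
    rw [U0_eq hφ]
    apply le_antisymm
    · refine iSup₂_le fun k hk => ?_
      have h1 : S.XZ (k : ℤ) ≤ J S.XZ 1 8 := X_le_J (by exact_mod_cast hk.1) (by exact_mod_cast hk.2)
      refine le_trans (le_of_eq ?_) h1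
      show S.R.X ((k : ℕ) : ZMod (2 * 8)) = S.R.X (((k : ℕ) : ℤ) : ZMod (2 * 8))
      rw [Int.cast_natCast]
    · refine J_le fun k h1 h2 => ?_
      obtain ⟨n, rfl⟩ := Int.eq_ofNat_of_zero_le (show 0 ≤ k by omega)
      have h3 := le_iSup₂ (f := fun (k : ℕ) (_ : k ∈ Set.Icc (1 : ℕ) 8) =>
        Cfsg.Agent.Octagon.KSys.XX F (2 ^ m) ((k : ℕ) : ZMod (2 * 8))) n ⟨by exact_mod_cast h1, by exact_mod_cast h2⟩
      refine le_trans (le_of_eq ?_) h3
      show S.R.X (((n : ℕ) : ℤ) : ZMod (2 * 8)) = S.R.X ((n : ℕ) : ZMod (2 * 8))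
      rw [Int.cast_natCast]
  have hPB : P.B = normalizer (J S.XZ 1 8 : Set ↥(twistedF4 F (2 ^ m))) := by
    rw [← hU, U0_normal_B hφ, hB]
    rfl
  have hPS : P.S = {S.n1, S.n2} := hS
  have h12 : S.n1 ≠ S.n2 := by
    intro h
    obtain ⟨y, hy, hy1⟩ := S.zsys8.exists_ne 1
    have h1 := S.n1_refl.mem' (k := 9) hy (by norm_num)
    have h2 := S.n2_refl.mem' (k := 7) hy (by norm_num)
    rw [← h] at h2
    have h3 := S.X_inf_near (i := 7) (j := 9) (by norm_num) (by norm_num) h2 h1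
    exact hy1 (conj_eq_one_iff.1 h3)
  exact ⟨fixR S hPB hPS hF hR hirr h12 hx3, fun hRC => eq_one S hPB hPS hF hR hirr h12 hRC hx3⟩

variable {K : Type*} [Group K] [Finite K] [hK : IsSimpleGroup K]

include hK in
/-- every automorphism of order three of `²F₄(q)`, `q ≥ 8`, normalises a nontrivial 2-subgroup -/
theorem fixR_2f4 (h : Cfsg.Lie.Iso2F4 K) {x : MulAut K} (hx : x ^ 3 = 1) : FixR 2 x := by
  obtain ⟨F, _, _, m, hm, hcard, ⟨e⟩⟩ := h
  have hfin : Finite ↥(twistedF4 F (2 ^ m)) := Finite.of_equiv K e.toEquiv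
  have hsim : IsSimpleGroup ↥(twistedF4 F (2 ^ m)) := e.symm.isSimpleGroup
  refine FixR.of_tr e (tw hm hcard ?_).1
  have h1 : H459.Rad.tr e x ^ 3 = H459.Rad.tr e (x ^ 3) := by
    ext a
    simp only [pow_succ, pow_zero, one_mul, MulAut.mul_apply, tr_apply, e.symm_apply_apply]
  rw [h1, hx]
  ext a
  rw [tr_apply]
  simp

/-- no radical automorphism of order three of `²F₄(q)`, `q ≥ 8` -/
theorem eq_one_2f4 (h : Cfsg.Lie.Iso2F4 K) {x : MulAut K} (hx : orderOf x = 3) (hR : RC x) : False := by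
  obtain ⟨F, _, _, m, hm, hcard, ⟨e⟩⟩ := h
  have hfin : Finite ↥(twistedF4 F (2 ^ m)) := Finite.of_equiv K e.toEquiv
  have hsim : IsSimpleGroup ↥(twistedF4 F (2 ^ m)) := e.symm.isSimpleGroup
  have h1 : orderOf (H459.Rad.tr e x) = 3 := by rw [orderOf_tr, hx]
  have h2 := (tw hm hcard (by rw [← h1]; exact pow_orderOf_eq_one _)).2 (hR.tr e)
  rw [h2, orderOf_one] at h1
  omega

/-- **The row `²F₄(q)`, first half.** -/
theorem fixAt_2f4 (h : Cfsg.Lie.Iso2F4 K) : Cfsg.Agent.H959.Rad3.FixAt 2 K := fun x hx _ _ =>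
  fixR_2f4 h (by rw [← hx]; exact pow_orderOf_eq_one x)

/-- **The row `²F₄(q)`.** -/
theorem irow_2f4 (h : Cfsg.Lie.Iso2F4 K) : Cfsg.Agent.H959.Rad3.IRow K := fun _ hx hR _ => eq_one_2f4 h hx hR

theorem nf3_2f4 (h : Cfsg.Lie.Iso2F4 K) : NF 2 3 K := fun _ hx hR _ => eq_one_2f4 h hx hR

end Final

end Cfsg.Agent.H160.TwF3.Row
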